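import Groth.Agent.DivDualLib.Main
import Groth.Agent.ProperTraceLib.Basic
import Groth.Agent.S18350
import Groth.Agent.S0341
import Groth.Agent.NefH1Lib.GorDual
import Groth.Agent.NodalLib.Dualizing
import Groth.Agent.EquidimLib.OpenComponent
import Groth.Agent.GenFlatStrat.FGExtend
import Groth.Agent.IntMultLib.Cartier
import Groth.Agent.DefClassLib.Basic
import Groth.Agent.CycKSuppLib.Killed
import Groth.Prelude.Def_DDual2

/-!
# Linkage: the dualizing module of a residual scheme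
-/

set_option autoImplicit false
set_option linter.style.haveILetI false
set_option linter.unusedSectionVars false
set_option backward.isDefEq.respectTransparency false
set_option backward.isDefEq.respectTransparency.types false
set_option maxHeartbeats 1000000
set_option synthInstance.maxHeartbeats 400000

universe u

open CategoryTheory CategoryTheory.Limits AlgebraicGeometry TopologicalSpace Opposite
open Groth.Agent
open ProjFormLib (ger res ger_res ger_map exists_ger section_ext)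
open CohCmpLib (homMod hVal happ homMod_ext)

attribute [local instance] HasDerivedCategory.standard

noncomputable section

namespace LinkLib

variable (k : Type u) [Field k] {X : Scheme.{u}} [X.Over (Spec (CommRingCat.of k))]
  [IsProper (X ↘ Spec (CommRingCat.of k))]

/-- `i_* ω_Y = ℋom(i_*O, ω_X)` in equal dimension. -/
theorem nonempty_push_dualizing (d : ℕ) (hdim : topologicalKrullDim X ≤ (d : WithBot ℕ∞))
    [DCoh.HasRpush (X ↘ (Spec (CommRingCat.of k)))] (h : DCoh.RpushPreservesQCoh (X ↘ (Spec (CommRingCat.of k))))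
    [DCoh.HasShriek (X ↘ (Spec (CommRingCat.of k))) h]
    (OY : DCoh.DQCoh (Spec (CommRingCat.of k)))
    (hOY : Nonempty (OY.obj ≅ DCoh.inD (Spec (CommRingCat.of k)) (Coh.structureModule (Spec (CommRingCat.of k)))))
    {Y : Scheme.{u}} (i : Y ⟶ X) [IsClosedImmersion i]
    [DCoh.HasRpush (i ≫ (X ↘ (Spec (CommRingCat.of k))))] (hY : DCoh.RpushPreservesQCoh (i ≫ (X ↘ (Spec (CommRingCat.of k)))))
    [DCoh.HasShriek (i ≫ (X ↘ (Spec (CommRingCat.of k)))) hY] :
    Nonempty ((Coh.push i).obj (DCoh.dualizingMod (i ≫ (X ↘ (Spec (CommRingCat.of k)))) hY OY d) ≅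
      homMod (ExtShLib.pO i) (DCoh.dualizingMod (X ↘ (Spec (CommRingCat.of k))) h OY d)) := by
  obtain ⟨eO⟩ := hOY
  let f := X ↘ Spec (CommRingCat.of k)
  letI : Y.Over (Spec (CommRingCat.of k)) := ⟨i ≫ f⟩
  haveI : IsProper (Y ↘ Spec (CommRingCat.of k)) := show IsProper (i ≫ f) from inferInstance
  haveI : DCoh.HasRpush (Y ↘ Spec (CommRingCat.of k)) := show DCoh.HasRpush (i ≫ f) from inferInstance
  haveI : IsLocallyNoetherian X := LocallyOfFiniteType.isLocallyNoetherian f
  haveI : CompactSpace X := QuasiCompact.compactSpace_of_compactSpace f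
  haveI : AlgebraicGeometry.IsNoetherian X := ⟨⟩
  haveI : IsLocallyNoetherian Y := LocallyOfFiniteType.isLocallyNoetherian i
  haveI : CompactSpace Y := i.isClosedEmbedding.compactSpace
  haveI : AlgebraicGeometry.IsNoetherian Y := ⟨⟩
  haveI : ∀ (R : CommRingCat.{u}), PreservesFiniteLimits (tilde.functor R) := fun R =>
    HensSchLib.tilde_preservesFiniteLimits R
  haveI : ∀ (U V : Scheme.{u}) (j : U ⟶ V) [IsOpenImmersion j],
      PreservesFiniteLimits (Scheme.Modules.restrictFunctor j) := fun U V j _ => inferInstance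
  have hdX : topologicalKrullDim X ≤ (d : WithBot ℕ∞) := hdim
  have hdY : topologicalKrullDim Y ≤ (d : WithBot ℕ∞) :=
    i.isEmbedding.isInducing.topologicalKrullDim_le.trans hdX
  -- both modules represent the dual of the first cohomology
  obtain ⟨hdualX, hzX, -⟩ := Dual3Lib.amplitude f h _ (DCoh.shriekAdj f h) OY eO d hdX
  obtain ⟨hdualY, hzY, -⟩ := Dual3Lib.amplitude (Y ↘ Spec (CommRingCat.of k)) hY _
    (DCoh.shriekAdj (i ≫ f) hY) OY eO d hdY
  let eW := eO ≪≫ Dual3Lib.inDSpecIso.symm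
  obtain ⟨tX, htX⟩ := Dual3Lib.exists_trace h _ (DCoh.shriekAdj f h) d 0 (-(d : ℤ)) (by omega) OY eW
    ((DerivedCategory.isGE_iff _ _).2 fun p hp => hzX p (Or.inl hp))
  obtain ⟨tY, htY⟩ := Dual3Lib.exists_trace (X := Y) hY _ (DCoh.shriekAdj (i ≫ f) hY) d 0 (-(d : ℤ)) (by omega)
    OY eW ((DerivedCategory.isGE_iff _ _).2 fun p hp => hzY p (Or.inl hp))
  let V := ((DerivedCategory.homologyFunctor (ModuleCat.{u} k) 0).obj (Dual.inD k k))
  let ωX := DCoh.dualizingMod f h OY d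
  let ωY := DCoh.dualizingMod (i ≫ f) hY OY d
  have hcX : Coh.IsCoh ωX := Dual3Lib.isCohD_of_isDualizingSch hdualX _
  have hcY : Coh.IsCoh ωY := Dual3Lib.isCohD_of_isDualizingSch hdualY _
  obtain ⟨q⟩ := ExtShLib.nonempty_push_iso_quotMod i
  have hpO : Coh.IsCoh (ExtShLib.pO i) := QCohLib.isCoh_of_iso q (CurvLib.isCoh_quotMod i.ker)
  let G := (ExtShLib.shriek i).obj ωX
  have ek : CohCmpLib.homMod (ExtShLib.pO i) ωX ≅ (Scheme.Modules.pushforward i).obj G :=
    (ExtShLib.killedIso i).app ωX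
  have hGq : Coh.IsQCoh G := by
    haveI := (QCohLib.isCoh_of_iso ek (HomCohLib.isCoh_homMod hpO hcX)).1
    haveI := CycKSuppLib.isIso_counit i G
    exact @QCohLib.isQCoh_of_iso _ _ _ (asIso ((Scheme.Modules.pullbackPushforwardAdjunction i).counit.app G))
      (KFlatLib.isQCoh_pullback i ((Scheme.Modules.pushforward i).obj G))
  let trX : ∀ F : X.Modules, Coh.IsQCoh F → (F ⟶ ωX) ≃ (Coh.HH X F d →ₗ[k] V) := fun F hF =>
    Equiv.ofBijective (fun φ => tX.comp (Canon.HHlin k φ d)) ⟨fun a b hab =>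
      (htX F hF (fun j hj => CurvLib.subsingleton_HH_of_dim_le F hdX j hj) (tX.comp (Canon.HHlin k a d))).unique
        (fun x => rfl) (fun x => (LinearMap.congr_fun hab x)), fun ψ => by
      obtain ⟨φ, hφ, -⟩ := htX F hF (fun j hj => CurvLib.subsingleton_HH_of_dim_le F hdX j hj) ψ
      exact ⟨φ, LinearMap.ext fun x => (hφ x).symm⟩⟩
  let trY : ∀ F : Y.Modules, Coh.IsQCoh F → (F ⟶ ωY) ≃ (Coh.HH Y F d →ₗ[k] V) := fun F hF =>
    Equiv.ofBijective (fun φ => tY.comp (Canon.HHlin k φ d)) ⟨fun a b hab =>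
      (htY F hF (fun j hj => CurvLib.subsingleton_HH_of_dim_le F hdY j hj) (tY.comp (Canon.HHlin k a d))).unique
        (fun x => rfl) (fun x => (LinearMap.congr_fun hab x)), fun ψ => by
      obtain ⟨φ, hφ, -⟩ := htY F hF (fun j hj => CurvLib.subsingleton_HH_of_dim_le F hdY j hj) ψ
      exact ⟨φ, LinearMap.ext fun x => (hφ x).symm⟩⟩
  let adj := ExtShLib.shriekAdj i
  have hpush : ∀ F : Y.Modules, Coh.IsQCoh F → Coh.IsQCoh ((Scheme.Modules.pushforward i).obj F) := fun F hF =>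
    QCohLib.isQCoh_pushforward i F
  have hiY : i ≫ (X ↘ Spec (CommRingCat.of k)) = Y ↘ Spec (CommRingCat.of k) := rfl
  let pe := fun F : Y.Modules => DivDualLib.pushEquiv (k := k) i hiY F d
  let trG : ∀ F : Y.Modules, Coh.IsQCoh F → (F ⟶ G) ≃ (Coh.HH Y F d →ₗ[k] V) := fun F hF =>
    (adj.homEquiv F ωX).symm.trans ((trX _ (hpush F hF)).trans
      { toFun := fun ξ => ξ.comp (pe F).toLinearMap
        invFun := fun ξ => ξ.comp (pe F).symm.toLinearMap
        left_inv := fun ξ => by ext x; simp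
        right_inv := fun ξ => by ext x; simp })
  have hcomp : ∀ {A B C : X.Modules} (a : A ⟶ B) (b : B ⟶ C) (x : Coh.HH X A d),
      Canon.HHlin k (a ≫ b) d x = Canon.HHlin k b d (Canon.HHlin k a d x) := fun {A B C} a b x => by
    show Sheaf.H.map ((SheafOfModules.toSheaf X.ringCatSheaf).map (a ≫ b)) d x = _
    rw [Functor.map_comp, Sheaf.H.map_comp_apply]
    rfl
  obtain ⟨v⟩ := DivDualLib.nonempty_iso_of_natEquiv hcY.1 hGq (fun F => Coh.HH Y F d →ₗ[k] V)
    (fun ψ ξ => ξ.comp (Canon.HHlin k ψ d)) trY trG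
    (fun hF hG ψ φ => LinearMap.ext fun x => by
      show tY (Sheaf.H.map ((SheafOfModules.toSheaf Y.ringCatSheaf).map (ψ ≫ φ)) d x) = _
      rw [Functor.map_comp, Sheaf.H.map_comp_apply]
      rfl)
    (fun {F F'} hF hG ψ φ => LinearMap.ext fun x => by
      show tX (Canon.HHlin k ((adj.homEquiv F ωX).symm (ψ ≫ φ)) d (DivDualLib.pushEquiv i hiY F d x)) =
        tX (Canon.HHlin k ((adj.homEquiv F' ωX).symm φ) d (DivDualLib.pushEquiv i hiY F' d (Canon.HHlin k ψ d x)))
      rw [Adjunction.homEquiv_naturality_left_symm, DivDualLib.pushEquiv_natural]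
      exact congrArg tX (hcomp _ _ _))
  exact ⟨(Scheme.Modules.pushforward i).mapIso v ≪≫ ek.symm⟩

/-- The dualizing module of a Gorenstein equidimensional proper scheme is invertible. -/
theorem omega_invertible (d : ℕ) (hcomp : ∀ T ∈ irreducibleComponents (X : Type u), topologicalKrullDim T = d)
    (hgor : ∀ x : X, LocCoh.IsGorensteinLocalRing (X.presheaf.stalk x))
    [DCoh.HasRpush (X ↘ Spec (CommRingCat.of k))] (h : DCoh.RpushPreservesQCoh (X ↘ Spec (CommRingCat.of k)))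
    [DCoh.HasShriek (X ↘ Spec (CommRingCat.of k)) h] (OY : DCoh.DQCoh (Spec (CommRingCat.of k)))
    (hOY : Nonempty (OY.obj ≅ DCoh.inD (Spec (CommRingCat.of k)) (Coh.structureModule (Spec (CommRingCat.of k))))) :
    PicF.IsInvertible (DCoh.dualizingMod (X ↘ Spec (CommRingCat.of k)) h OY d) := by
  let f := X ↘ Spec (CommRingCat.of k)
  haveI : IsLocallyNoetherian X := LocallyOfFiniteType.isLocallyNoetherian f
  haveI : CompactSpace X := QuasiCompact.compactSpace_of_compactSpace f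
  haveI : QuasiSeparatedSpace X := quasiSeparatedSpace_of_quasiSeparated f
  haveI : AlgebraicGeometry.IsNoetherian X := ⟨⟩
  haveI : EnoughInjectives X.Modules := IsGrothendieckAbelian.enoughInjectives.{u}
  haveI : HasExt.{u} X.Modules := hasExt_of_enoughInjectives.{u} X.Modules
  haveI : ∀ (U V : Scheme.{u}) (j : U ⟶ V) [IsOpenImmersion j],
      PreservesFiniteLimits (Scheme.Modules.restrictFunctor j) := fun U V j _ => inferInstance
  haveI : ∀ (B : CommRingCat.{u}), PreservesFiniteLimits (tilde.functor B) := fun B =>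
    HensSchLib.tilde_preservesFiniteLimits B
  have hd : topologicalKrullDim X ≤ (d : WithBot ℕ∞) :=
    EquidimLib.topologicalKrullDim_le_of_components fun Z hZ => (hcomp Z hZ).le
  have hCM : ∀ x : X, LocCoh.IsCohenMacaulayLocalRing (X.presheaf.stalk x) := fun x =>
    haveI := hgor x
    Groth.Agent.S0341.result _
  obtain ⟨eO⟩ := hOY
  obtain ⟨hdual, -, -⟩ := Dual3Lib.amplitude f h _ (DCoh.shriekAdj f h) OY eO d hd
  have hinv := DualCxLib.isInvertibleD_of_gorenstein ⟨inferInstance, hgor⟩ hdual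
  exact NefH1Lib.isInvertible_of_isInvertibleD hinv _ fun x =>
    ((Groth.Agent.S3637.result k X f hCM d hcomp h _ (DCoh.shriekAdj f h) OY ⟨eO⟩).2.2 x).1

section Annihilator

variable {Z : Scheme.{u}} {IX IW : Z.IdealSheafData}

local notation "𝒪" => Coh.structureModule Z

/-- Evaluation of the restriction of multiplication by `s` to the ideal. -/
theorem hVal_line {U W : Z.Opens} (s : Γ(Z, U)) (hWU : W ≤ U) {y : Z} (hy : y ∈ W) (a : Γ(ClSub.idealMod IX, W)) :
    hVal ((ExtShLib.unitHom' 𝒪 ≫ PnDualLib.preMap (ClSub.idealModι IX) 𝒪).app U s) y (hWU hy)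
        (ger (ClSub.idealMod IX) y hy a) =
      ger 𝒪 y hy ((show Γ(Z, W) from Z.presheaf.map (homOfLE hWU).op s) *
        (show Γ(Z, W) from (ClSub.idealModι IX).app W a)) := by
  show hVal ((PnDualLib.preMap (ClSub.idealModι IX) 𝒪).app U ((ExtShLib.unitHom' 𝒪).app U s)) y (hWU hy) _ = _
  rw [PnDualLib.hVal_preMap, LinearMap.comp_apply, ger_map, ExtShLib.hVal_ger_happ _ (hWU hy) hWU hy]
  refine congrArg (ger 𝒪 y hy) ?_
  rw [show res (homMod 𝒪 𝒪) hWU ((ExtShLib.unitHom' 𝒪).app U s) =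
    (ExtShLib.unitHom' 𝒪).app W (res 𝒪 hWU s) from (QCohLib.app_map (ExtShLib.unitHom' 𝒪) (homOfLE hWU) s).symm]
  exact (ExtShLib.ger_happ_unitHom' _ _ _).trans (mul_comm (show Γ(Z, W) from (ClSub.idealModι IX).app W a)
    (show Γ(Z, W) from Z.presheaf.map (homOfLE hWU).op s))

theorem line_eq_zero (hW : ∀ U : Z.affineOpens, IW.ideal U = (IX.ideal U).annihilator) :
    ClSub.idealModι IW ≫ ExtShLib.unitHom' 𝒪 ≫ PnDualLib.preMap (ClSub.idealModι IX) 𝒪 = 0 := by
  refine Scheme.Modules.hom_ext _ _ fun U => ?_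
  ext n
  refine homMod_ext fun y hy => LinearMap.ext fun a => ?_
  obtain ⟨W₀, hyW₀, a, rfl⟩ := exists_ger (ClSub.idealMod IX) y a
  obtain ⟨W, hWaff, hyW, hle⟩ := exists_isAffineOpen_mem_and_subset (X := Z) (x := y) (U := U ⊓ W₀) ⟨hy, hyW₀⟩
  have hle' : W ≤ U ⊓ W₀ := hle
  rw [← ger_res (ClSub.idealMod IX) (hle'.trans inf_le_right) y hyW a]
  refine (hVal_line ((ClSub.idealModι IW).app U n) (hle'.trans inf_le_left) hyW _).trans ?_
  have h1 : (show Γ(Z, W) from Z.presheaf.map (homOfLE (hle'.trans inf_le_left)).op ((ClSub.idealModι IW).app U n)) ∈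
      IW.ideal ⟨W, hWaff⟩ := by
    have h := GenFlatStrat.idealModι_mem IW ⟨W, hWaff⟩
      ((ClSub.idealMod IW).presheaf.map (homOfLE (hle'.trans inf_le_left)).op n)
    rw [QCohLib.app_map] at h
    exact h
  have h2 := GenFlatStrat.idealModι_mem IX ⟨W, hWaff⟩ (res (ClSub.idealMod IX) (hle'.trans inf_le_right) a)
  rw [hW] at h1
  have h3 := Submodule.mem_annihilator.1 h1 _ h2
  refine ((congrArg (ger 𝒪 y hyW) h3).trans (CohCmpLib.ger_zero 𝒪 y hyW)).trans ?_
  rfl

theorem toSubscheme_kernel_eq_zero (hW : ∀ U : Z.affineOpens, IW.ideal U = (IX.ideal U).annihilator) :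
    kernel.ι (ExtShLib.unitHom' 𝒪 ≫ PnDualLib.preMap (ClSub.idealModι IX) 𝒪) ≫ ClSub.toSubscheme IW = 0 := by
  refine DefClassLib.hom_ext_affines fun V n => ?_
  let φ := ExtShLib.unitHom' 𝒪 ≫ PnDualLib.preMap (ClSub.idealModι IX) 𝒪
  let s : Γ(Z, V.1) := (kernel.ι φ).app V.1 n
  refine (IntMultLib.toSubscheme_app_eq_zero_iff IW V s).2 ?_
  rw [hW]
  refine Submodule.mem_annihilator.2 fun a ha => ?_
  obtain ⟨m, hm⟩ := GenFlatStrat.exists_idealMod_section IX V a ha
  have h0 : φ.app V.1 s = 0 := congrArg (fun ψ : kernel φ ⟶ _ => ψ.app V.1 n) (kernel.condition φ)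
  show (show Γ(Coh.structureModule Z, V.1) from s * a) = 0
  refine section_ext _ _ fun y hy => ?_
  have h1 := hVal_line (IX := IX) s (le_refl V.1) hy m
  rw [show (homOfLE (le_refl V.1)).op = 𝟙 (op V.1) from rfl, Z.presheaf.map_id] at h1
  have h2 : hVal (φ.app V.1 s) y hy (ger (ClSub.idealMod IX) y hy m) = ger 𝒪 y hy (0 : Γ(𝒪, V.1)) := by
    rw [h0, CohCmpLib.ger_zero]
    rfl
  refine Eq.trans ?_ ((h1.symm).trans h2)
  rw [← hm]
  rfl

/-- `ℋom(O_X, O_Z) = (0 : I_X)`. -/
theorem nonempty_homMod_quot (hW : ∀ U : Z.affineOpens, IW.ideal U = (IX.ideal U).annihilator) :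
    Nonempty (homMod (ExtShLib.pO IX.subschemeι) 𝒪 ≅ ClSub.idealMod IW) := by
  let φ := ExtShLib.unitHom' 𝒪 ≫ PnDualLib.preMap (ClSub.idealModι IX) 𝒪
  haveI : Mono (ClSub.idealModι IW) := inferInstanceAs (Mono (kernel.ι (ClSub.toSubscheme IW)))
  let a : ClSub.idealMod IW ⟶ kernel φ := kernel.lift φ (ClSub.idealModι IW) (line_eq_zero hW)
  let b : kernel φ ⟶ ClSub.idealMod IW := kernel.lift _ (kernel.ι φ) (toSubscheme_kernel_eq_zero hW)
  have ha : a ≫ kernel.ι φ = ClSub.idealModι IW := kernel.lift_ι _ _ _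
  have hb : b ≫ ClSub.idealModι IW = kernel.ι φ := kernel.lift_ι _ _ _
  let e : ClSub.idealMod IW ≅ kernel φ :=
    { hom := a, inv := b
      hom_inv_id := by rw [← cancel_mono (ClSub.idealModι IW), Category.assoc, hb, ha, Category.id_comp]
      inv_hom_id := by rw [← cancel_mono (kernel.ι φ), Category.assoc, ha, hb, Category.id_comp] }
  let S := CurvLib.idealSeq IX
  have hS : S.ShortExact := CurvLib.idealSeq_shortExact IX
  haveI : Epi S.g := hS.epi_g
  haveI : Mono (ExtShLib.preSeq S 𝒪).f := ExtShLib.mono_preMap S.g 𝒪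
  let c : homMod S.X₃ 𝒪 ≅ kernel (PnDualLib.preMap S.f 𝒪) :=
    IsLimit.conePointUniqueUpToIso ((ExtShLib.preSeq_exact hS.exact 𝒪).fIsKernel) (limit.isLimit _)
  obtain ⟨q⟩ := ExtShLib.nonempty_push_iso_quotMod IX.subschemeι
  let q' : ExtShLib.pO IX.subschemeι ≅ S.X₃ :=
    q.symm ≪≫ eqToIso (congrArg ClSub.quotMod IX.ker_subschemeι)
  exact ⟨LMLib.homModLeftIso q' 𝒪 ≪≫ c ≪≫ (kernelIsIsoComp (ExtShLib.unitHom' 𝒪) _).symm ≪≫ e.symm⟩

end Annihilator

end LinkLib
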