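import Groth.Agent.LinkLib.Residual
import Groth.Agent.S17671
import Groth.Agent.S1656
import Groth.Agent.S1766
import Groth.Agent.EllSimpleLib.Main
import Groth.Agent.NefH1Lib.Adjunction.Basic
import Groth.Agent.BlowPtLib.Seq
import Groth.Agent.CurvLib.Divisor
import Groth.Agent.QRlimLib.Push

/-!
# Linkage of curves: the genus formula
-/

set_option autoImplicit false
set_option linter.style.haveILetI false
set_option linter.unusedSectionVars false
set_option backward.isDefEq.respectTransparency false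
set_option backward.isDefEq.respectTransparency.types false
set_option maxHeartbeats 1000000
set_option synthInstance.maxHeartbeats 400000

universe u

open CategoryTheory CategoryTheory.Limits AlgebraicGeometry TopologicalSpace Opposite
open Groth.Agent

attribute [local instance] HasDerivedCategory.standard

noncomputable section

namespace LinkLib

/-- The residual ideal is trivial at the generic points of the linked scheme. -/
theorem notMem_support_of_stalk {Z : Scheme.{u}} [IsLocallyNoetherian Z] {IX IW : Z.IdealSheafData}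
    (hW : ∀ U : Z.affineOpens, IW.ideal U = (IX.ideal U).annihilator) {q : Z}
    (hs : Subsingleton ((ClSub.idealMod IX).presheaf.stalk q)) : q ∉ IW.support := by
  obtain ⟨V, hV, hqV, -⟩ := exists_isAffineOpen_mem_and_subset (X := Z) (x := q) (U := ⊤) trivial
  haveI : IsNoetherianRing Γ(Z, V) := IsLocallyNoetherian.component_noetherian ⟨V, hV⟩
  letI := TopCat.Presheaf.algebra_section_stalk Z.presheaf ⟨q, hqV⟩
  haveI := hV.isLocalization_stalk ⟨q, hqV⟩
  obtain ⟨S, hS⟩ := IsNoetherian.noetherian (IX.ideal ⟨V, hV⟩)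
  have hex : ∀ b : S, ∃ s : (hV.primeIdealOf ⟨q, hqV⟩).asIdeal.primeCompl, (s : Γ(Z, V)) * b.1 = 0 := by
    intro b
    obtain ⟨m, hm⟩ := IntMultLib.exists_section IX ⟨V, hV⟩ (hS ▸ Submodule.subset_span b.2)
    obtain ⟨W, hqW, i₁, i₂, hW'⟩ := TopCat.Presheaf.germ_eq (ClSub.idealMod IX).presheaf q hqV hqV m 0
      (@Subsingleton.elim _ hs _ _)
    have h5 := congrArg ((ClSub.idealModι IX).app W) hW'
    simp only [QCohLib.app_map, map_zero, hm] at h5
    refine (IsLocalization.map_eq_zero_iff (hV.primeIdealOf ⟨q, hqV⟩).asIdeal.primeCompl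
      (Z.presheaf.stalk q) _).1 ?_
    have h := congrArg (Z.presheaf.germ W _ hqW) h5
    rw [map_zero] at h
    exact (TopCat.Presheaf.germ_res_apply Z.presheaf i₁ _ hqW b.1).symm.trans h
  choose s hs' using hex
  let t := ∏ b : S, s b
  have ht : (t : Γ(Z, V)) ∈ IW.ideal ⟨V, hV⟩ := by
    rw [hW, ← hS, Submodule.mem_annihilator_span]
    intro b
    obtain ⟨c, hc⟩ : s ⟨b.1, b.2⟩ ∣ t := Finset.dvd_prod_of_mem _ (Finset.mem_univ _)
    rw [smul_eq_mul, hc, Submonoid.coe_mul, mul_right_comm, hs', zero_mul]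
  rw [Scheme.IdealSheafData.mem_support_iff_of_mem (U := ⟨V, hV⟩) hqV, Scheme.mem_zeroLocus_iff]
  intro h
  refine h t ht ?_
  rw [Scheme.mem_basicOpen _ _ _ hqV]
  exact IsLocalization.map_units (Z.presheaf.stalk q) t

variable (k : Type u) [Field k] {Z : Scheme.{u}} [Z.Over (Spec (CommRingCat.of k))]
  [IsProper (Z ↘ Spec (CommRingCat.of k))] {n : ℕ} (j : Z ⟶ CohB1.ProjSpace n k) [IsClosedImmersion j]

/-- Euler characteristics of twists on a curve are linear. -/
theorem euler_twist_linear {X : Scheme.{u}} [X.Over (Spec (CommRingCat.of k))]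
    [IsProper (X ↘ Spec (CommRingCat.of k))] (i : X ⟶ CohB1.ProjSpace n k) [IsClosedImmersion i]
    (hd : topologicalKrullDim X ≤ 1) (m : ℤ) :
    Curv2.euler k X ((Scheme.Modules.pullback i).obj (Twist.twistProjSpace n k m)) =
      Curv2.euler k X (Coh.structureModule X) +
        m * Curv2.deg k X ((Scheme.Modules.pullback i).obj (Twist.twistProjSpace n k 1)) 1 := by
  haveI := CurvLib.isNoetherian k (X := X)
  have hO : Coh.IsCoh (Coh.structureModule X) := DevissLib.isCoh_structureModule X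
  set P := StabLib.HPoly k ((Scheme.Modules.pullback i).obj (Twist.twistProjSpace n k 1)) (Coh.structureModule X)
  have hP : P.natDegree ≤ 1 := StabLib.hPoly_deg (EllSimpleLib.isAmple_pol (k := k) i) hO
    ((topologicalKrullDim_subspace_le X _).trans (by exact_mod_cast hd))
  have ev : ∀ t : ℤ, (Curv2.euler k X ((Scheme.Modules.pullback i).obj (Twist.twistProjSpace n k t)) : ℚ) =
      P.eval (t : ℚ) := fun t => by
    rw [← EllSimpleLib.euler_twistOn i hO t]
    exact congrArg Int.cast (CurvLib.euler_congr (k := k) (HilbPolyLib.unitLeft _).symm)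
  have e0 : Curv2.euler k X ((Scheme.Modules.pullback i).obj (Twist.twistProjSpace n k 0)) =
      Curv2.euler k X (Coh.structureModule X) := by
    obtain ⟨e⟩ := PicPnLib.twist_zero n k
    exact CurvLib.euler_congr (k := k) ((Scheme.Modules.pullback i).mapIso e ≪≫ KFlatLib.pullUnitIso i)
  have h0 := ev 0
  have h1 := ev 1
  have hm := ev m
  rw [Polynomial.eq_X_add_C_of_natDegree_le_one hP] at h0 h1 hm
  simp only [Polynomial.eval_add, Polynomial.eval_mul, Polynomial.eval_C, Polynomial.eval_X] at h0 h1 hm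
  rw [e0] at h0
  rw [Curv2.deg]
  have : (Curv2.euler k X ((Scheme.Modules.pullback i).obj (Twist.twistProjSpace n k m)) : ℚ) =
      (Curv2.euler k X (Coh.structureModule X) : ℚ) + (m : ℚ) *
        ((Curv2.euler k X ((Scheme.Modules.pullback i).obj (Twist.twistProjSpace n k 1)) : ℚ) -
          (Curv2.euler k X (Coh.structureModule X) : ℚ)) := by
    rw [hm, h0, h1]
    push_cast
    ring
  push_cast
  rw [one_mul]
  exact_mod_cast this

/-- `2p_a(X) - 2 = m·deg X - I(X, W)`. -/
theorem genus_formula (hZdim : ∀ T ∈ irreducibleComponents (Z : Type u), topologicalKrullDim T = 1)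
    (hZgor : ∀ z : Z, LocCoh.IsGorensteinLocalRing (Z.presheaf.stalk z))
    [DCoh.HasRpush (Z ↘ Spec (CommRingCat.of k))] (hZ : DCoh.RpushPreservesQCoh (Z ↘ Spec (CommRingCat.of k)))
    [DCoh.HasShriek (Z ↘ Spec (CommRingCat.of k)) hZ]
    (OY : DCoh.DQCoh (Spec (CommRingCat.of k)))
    (hOY : Nonempty (OY.obj ≅ DCoh.inD (Spec (CommRingCat.of k)) (Coh.structureModule (Spec (CommRingCat.of k)))))
    (m : ℤ) (hωZ : Nonempty (DCoh.dualizingMod (Z ↘ Spec (CommRingCat.of k)) hZ OY 1 ≅
      (Scheme.Modules.pullback j).obj (Twist.twistProjSpace n k m)))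
    (IX : Z.IdealSheafData)
    (hXdim : ∀ T ∈ irreducibleComponents (IX.subscheme : Type u), topologicalKrullDim T = 1)
    (hXcm : ∀ x : IX.subscheme, LocCoh.IsCohenMacaulayLocalRing (IX.subscheme.presheaf.stalk x))
    (hgen : ∀ T (hT : T ∈ irreducibleComponents (IX.subscheme : Type u)),
      Subsingleton ((ClSub.idealMod IX).presheaf.stalk (IX.subschemeι.base hT.1.genericPoint)))
    (IW : Z.IdealSheafData) (hW : ∀ U : Z.affineOpens, IW.ideal U = (IX.ideal U).annihilator) :
    (-2 : ℤ) * @Curv2.euler k _ IX.subscheme ⟨IX.subschemeι ≫ (Z ↘ Spec (CommRingCat.of k))⟩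
        (Coh.structureModule IX.subscheme) =
      m * @Curv2.deg k _ IX.subscheme ⟨IX.subschemeι ≫ (Z ↘ Spec (CommRingCat.of k))⟩
          ((Scheme.Modules.pullback (IX.subschemeι ≫ j)).obj (Twist.twistProjSpace n k 1)) 1 -
        @Curv2.euler k _ (IX ⊔ IW).subscheme ⟨(IX ⊔ IW).subschemeι ≫ (Z ↘ Spec (CommRingCat.of k))⟩
          (Coh.structureModule (IX ⊔ IW).subscheme) := by
  let ι := IX.subschemeι
  let S := Spec (CommRingCat.of k)
  letI : IX.subscheme.Over S := ⟨ι ≫ (Z ↘ S)⟩
  haveI : IsProper (IX.subscheme ↘ S) := show IsProper (ι ≫ (Z ↘ S)) from inferInstance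
  haveI : IsLocallyNoetherian Z := LocallyOfFiniteType.isLocallyNoetherian (Z ↘ S)
  haveI : CompactSpace Z := QuasiCompact.compactSpace_of_compactSpace (Z ↘ S)
  haveI : CompactSpace IX.subscheme := QuasiCompact.compactSpace_of_compactSpace (IX.subscheme ↘ S)
  haveI : QuasiSeparatedSpace IX.subscheme := quasiSeparatedSpace_of_quasiSeparated (IX.subscheme ↘ S)
  haveI := CurvLib.isNoetherian k (X := IX.subscheme)
  haveI : DCoh.HasRpush (ι ≫ (Z ↘ S)) := DCohRestrLib.hasRpush _
  have hX : DCoh.RpushPreservesQCoh (ι ≫ (Z ↘ S)) := fun K hK => QRlimLib.isQCohD_rpush _ hK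
  haveI := Groth.Agent.S1766.result IX.subscheme (Spec (CommRingCat.of k)) (ι ≫ (Z ↘ S)) hX
  haveI : DCoh.HasRpush (IX.subscheme ↘ S) := show DCoh.HasRpush (ι ≫ (Z ↘ S)) from inferInstance
  haveI : DCoh.HasShriek (IX.subscheme ↘ S) hX := show DCoh.HasShriek (ι ≫ (Z ↘ S)) hX from inferInstance
  have hCM : ∀ z : Z, LocCoh.IsCohenMacaulayLocalRing (Z.presheaf.stalk z) := fun z =>
    haveI := hZgor z
    Groth.Agent.S0341.result _
  have hχ := Groth.Agent.S1656.result k IX.subscheme hXcm hXdim hX OY hOY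
  obtain ⟨e⟩ := Groth.Agent.S17671.result k Z 1 hZdim hZgor IX hXdim hXcm hgen IW hW hZ hX OY hOY
  haveI := LinkLib.isIso_toComap_residual (IX := IX) hCM hgen hW
  obtain ⟨eZ⟩ := hωZ
  obtain ⟨p⟩ := BlowPtLib.nonempty_pb_tensor ι (ClSub.idealMod IW) (DCoh.dualizingMod (Z ↘ S) hZ OY 1)
  let J := IW.comap ι
  let L := (Scheme.Modules.pullback (ι ≫ j)).obj (Twist.twistProjSpace n k m)
  let g : DCoh.dualizingMod (ι ≫ (Z ↘ S)) hX OY 1 ≅ CohB1.tensorMod L (ClSub.idealMod J) :=
    e ≪≫ p ≪≫ HilbPolyLib.congrLeft (asIso (PicH1Lib.toComap ι IW)) _ ≪≫ HilbPolyLib.congrRight _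
      ((Scheme.Modules.pullback ι).mapIso eZ ≪≫ (Scheme.Modules.pullbackComp ι j).app _) ≪≫
      HilbPolyLib.swapIso _ _
  have hL : PicF.IsInvertible L := AmpleDevLib.isInvertible_pb (ι ≫ j) (PicPnLib.twist_inv n k m)
  have hdX : topologicalKrullDim IX.subscheme ≤ (1 : ℕ) :=
    EquidimLib.topologicalKrullDim_le_of_components fun T hT => (hXdim T hT).le
  have hJ0 : topologicalKrullDim (J.support : Set IX.subscheme) ≤ 0 := by
    refine CurvLib.dim_le_zero_of_no_maximal (by exact_mod_cast hdX) J.support.isClosed fun x hx => ?_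
    let T := irreducibleComponent x
    have hT : T ∈ irreducibleComponents (IX.subscheme : Type u) := irreducibleComponent_mem_irreducibleComponents x
    refine ⟨hT.1.genericPoint, ?_, fun he => ?_⟩
    · refine specializes_iff_mem_closure.2 ?_
      rw [hT.1.isGenericPoint_genericPoint_closure.def, isClosed_irreducibleComponent.closure_eq]
      exact mem_irreducibleComponent
    · rw [← he] at hx
      rw [show J = IW.comap ι from rfl, Scheme.IdealSheafData.support_comap] at hx
      exact notMem_support_of_stalk hW (hgen T hT) hx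
  have hQ : topologicalKrullDim (CohB1.support (ClSub.quotMod J)) ≤ 0 :=
    (StabLib.dim_mono (CurvLib.support_quotMod_subset J)).trans hJ0
  have hseq := CurvLib.idealSeq_shortExact J
  have hO : Coh.IsCoh (Coh.structureModule IX.subscheme) := DevissLib.isCoh_structureModule _
  have hq : Coh.IsCoh (ClSub.quotMod J) := CurvLib.isCoh_quotMod J
  have hI : Coh.IsCoh (ClSub.idealMod J) := QCohLib.isCoh_kernel (ClSub.toSubscheme J) hO hq.1
  have hadd := NefH1Lib.Adj.delta_add k hL hseq hI hO hq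
  have hz := NefH1Lib.Adj.delta_eq_zero k hL hq hQ
  have hsum := CurvLib.euler_add_of_isCoh (k := k) hseq hI hO hq
  have hlin : Curv2.euler k IX.subscheme L = _ := euler_twist_linear k (ι ≫ j) (by exact_mod_cast hdX) m
  have hdeg : Curv2.deg k IX.subscheme L 1 = _ := NefH1Lib.Adj.deg_eq_delta k L
  have hω : Curv2.euler k IX.subscheme (DCoh.dualizingMod (IX.subscheme ↘ S) hX OY 1) =
      Curv2.euler k IX.subscheme (CohB1.tensorMod L (ClSub.idealMod J)) := CurvLib.euler_congr (k := k) g
  -- the two descriptions of the intersection scheme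
  letI : J.subscheme.Over S := ⟨J.subschemeι ≫ (IX.subscheme ↘ S)⟩
  letI : (IX ⊔ IW).subscheme.Over S := ⟨(IX ⊔ IW).subschemeι ≫ (Z ↘ S)⟩
  have hker : (J.subschemeι ≫ ι).ker = IX ⊔ IW := by
    refine Scheme.IdealSheafData.ext (funext fun U => ?_)
    rw [Scheme.IdealSheafData.ideal_sup, Pi.sup_apply, Scheme.Hom.ker_apply, Scheme.Hom.comp_app]
    change RingHom.ker ((J.subschemeι.app (ι ⁻¹ᵁ U.1)).hom.comp (ι.app U.1).hom) = _
    rw [← RingHom.comap_ker]
    have hj : RingHom.ker (J.subschemeι.app (ι ⁻¹ᵁ U.1)).hom = J.ideal ⟨ι ⁻¹ᵁ U.1, U.2.preimage ι⟩ :=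
      J.ker_subschemeι_app ⟨ι ⁻¹ᵁ U.1, U.2.preimage ι⟩
    rw [hj, Groth.Agent.S4666.ideal_comap_eq IW ι U ⟨ι ⁻¹ᵁ U.1, U.2.preimage ι⟩ le_rfl, Scheme.Hom.appLE_eq_app,
      Ideal.comap_map_of_surjective _ (IX.subschemeι_app_surjective U), ← RingHom.ker_eq_comap_bot,
      IX.ker_subschemeι_app U, sup_comm]
  have h1 : PicF.IsInvertible (Coh.structureModule IX.subscheme) := CurvLib.isInvertible_structureModule
  have h2 : PicF.IsInvertible (Coh.structureModule Z) := CurvLib.isInvertible_structureModule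
  have d1 := (NefH1Lib.euler_pullback (k := k) J.subschemeι rfl h1).2
  have d2 := (NefH1Lib.euler_pullback (k := k) (J.subschemeι ≫ ι) (Category.assoc _ _ _) h2).2
  have d3 := (NefH1Lib.euler_pullback (k := k) (IX ⊔ IW).subschemeι rfl h2).2
  rw [hker] at d2
  rw [Scheme.IdealSheafData.ker_subschemeι] at d1 d3
  have e1 : NefH1Lib.Adj.delta k L (CurvLib.idealSeq J).X₂ =
      Curv2.euler k IX.subscheme L - Curv2.euler k IX.subscheme (Coh.structureModule IX.subscheme) := by
    refine hdeg.symm.trans ?_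
    rw [Curv2.deg]
    push_cast
    ring
  have e2 : NefH1Lib.Adj.delta k L (CurvLib.idealSeq J).X₁ =
      Curv2.euler k IX.subscheme (CohB1.tensorMod L (ClSub.idealMod J)) -
        Curv2.euler k IX.subscheme (ClSub.idealMod J) := rfl
  have e3 : NefH1Lib.Adj.delta k L (CurvLib.idealSeq J).X₃ = 0 := hz
  have e4 : Curv2.euler k IX.subscheme (CurvLib.idealSeq J).X₂ =
      Curv2.euler k IX.subscheme (Coh.structureModule IX.subscheme) := rfl
  have e5 : Curv2.euler k IX.subscheme (CurvLib.idealSeq J).X₁ =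
      Curv2.euler k IX.subscheme (ClSub.idealMod J) := rfl
  have e6 : Curv2.euler k IX.subscheme (CurvLib.idealSeq J).X₃ =
      Curv2.euler k IX.subscheme (ClSub.quotMod J) := rfl
  linarith [hχ, hω, hlin, hadd, hsum, d1, d2, d3]

end LinkLib
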