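import Groth.Agent.LinkLib.Main
import Groth.Agent.PicH1Lib.FlatIdeal
import Groth.Agent.HullCMLib.Main

/-!
# Linkage: the residual ideal meets the linked ideal in zero
-/

set_option autoImplicit false
set_option linter.style.haveILetI false
set_option linter.unusedSectionVars false
set_option backward.isDefEq.respectTransparency false
set_option backward.isDefEq.respectTransparency.types false
set_option maxHeartbeats 1000000
set_option synthInstance.maxHeartbeats 400000

universe u

open CategoryTheory CategoryTheory.Limits AlgebraicGeometry TopologicalSpace Opposite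
open Groth.Agent
open KFlatLib (pb puSec)

noncomputable section

namespace LinkLib

variable {Z : Scheme.{u}} [IsLocallyNoetherian Z]

/-- Associated primes of an affine open of a Cohen–Macaulay scheme are minimal. -/
theorem minimal_of_ass {V : Z.Opens} (hV : IsAffineOpen V)
    (hCM : ∀ z : Z, LocCoh.IsCohenMacaulayLocalRing (Z.presheaf.stalk z))
    {P : Ideal Γ(Z, V)} (hP : P ∈ associatedPrimes Γ(Z, V) Γ(Z, V)) : P ∈ minimalPrimes Γ(Z, V) := by
  haveI : IsNoetherianRing Γ(Z, V) := IsLocallyNoetherian.component_noetherian ⟨V, hV⟩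
  haveI := hP.isPrime
  let y : PrimeSpectrum Γ(Z, V) := ⟨P, inferInstance⟩
  have hq : hV.fromSpec y ∈ V := by
    rw [← SetLike.mem_coe, ← hV.range_fromSpec]
    exact ⟨y, rfl⟩
  letI := TopCat.Presheaf.algebra_section_stalk Z.presheaf ⟨hV.fromSpec y, hq⟩
  haveI := hV.isLocalization_stalk' y hq
  let T := Z.presheaf.stalk (hV.fromSpec y)
  haveI := hCM (hV.fromSpec y)
  haveI : IsNoetherianRing T := IsLocalization.isNoetherianRing P.primeCompl T inferInstance
  have hT := SMTLib.isCM_of_isCohenMacaulayLocalRing T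
  have hmax : IsLocalRing.maximalIdeal T ∈ associatedPrimes T T :=
    Module.associatedPrimes.mem_associatedPrimes_of_comap_mem_associatedPrimes_of_isLocalizedModule P.primeCompl
      (Algebra.linearMap Γ(Z, V) T) _ (by
        rw [← Ideal.under_def, IsLocalization.AtPrime.under_maximalIdeal T P]; exact hP)
  have h2 := Ideal.height_eq_zero_iff.2 (HullCM.mem_minimalPrimes_of_ass hT hmax)
  rw [← WithBot.coe_inj, IsLocalRing.maximalIdeal_height_eq_ringKrullDim,
    IsLocalization.AtPrime.ringKrullDim_eq_height P T, WithBot.coe_inj] at h2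
  rwa [Ideal.height_eq_zero_iff] at h2

variable {IX IW : Z.IdealSheafData}

/-- The residual ideal meets the ideal in zero. -/
theorem inf_eq_zero (hCM : ∀ z : Z, LocCoh.IsCohenMacaulayLocalRing (Z.presheaf.stalk z))
    (hgen : ∀ T (hT : T ∈ irreducibleComponents (IX.subscheme : Type u)),
      Subsingleton ((ClSub.idealMod IX).presheaf.stalk (IX.subschemeι.base hT.1.genericPoint)))
    (hW : ∀ U : Z.affineOpens, IW.ideal U = (IX.ideal U).annihilator)
    (V : Z.affineOpens) {b : Γ(Z, V.1)} (hbX : b ∈ IX.ideal V) (hbW : b ∈ IW.ideal V) : b = 0 := by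
  haveI : IsNoetherianRing Γ(Z, V.1) := IsLocallyNoetherian.component_noetherian V
  by_contra hb
  obtain ⟨P, hP, hle⟩ := exists_le_isAssociatedPrime_of_isNoetherianRing Γ(Z, V.1) b hb
  haveI := hP.isPrime
  have hmin := minimal_of_ass V.2 hCM hP
  have hann : ∀ s : Γ(Z, V.1), s * b = 0 → s ∈ P := fun s hs => hle (by
    rw [Submodule.mem_colon_singleton, Submodule.mem_bot]; exact hs)
  let y : PrimeSpectrum Γ(Z, V.1) := ⟨P, inferInstance⟩
  have hq : V.2.fromSpec y ∈ V.1 := by
    rw [← SetLike.mem_coe, ← V.2.range_fromSpec]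
    exact ⟨y, rfl⟩
  by_cases hz : V.2.fromSpec y ∈ Set.range IX.subschemeι
  · obtain ⟨z, hz⟩ := hz
    let T := irreducibleComponent z
    have hT : T ∈ irreducibleComponents (IX.subscheme : Type u) := irreducibleComponent_mem_irreducibleComponents z
    let g := hT.1.genericPoint
    have hgz : g ⤳ z := by
      refine specializes_iff_mem_closure.2 ?_
      rw [hT.1.isGenericPoint_genericPoint_closure.def, isClosed_irreducibleComponent.closure_eq]
      exact mem_irreducibleComponent
    have hgq : IX.subschemeι g ⤳ V.2.fromSpec y := hz ▸ hgz.map IX.subschemeι.continuous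
    have hgV : IX.subschemeι g ∈ V.1 := hgq.mem_open V.1.2 hq
    have h1 : V.2.primeIdealOf ⟨_, hgV⟩ ⤳ y := by
      rw [← V.2.fromSpec.isOpenEmbedding.isInducing.specializes_iff]
      rw [V.2.fromSpec_primeIdealOf]
      exact hgq
    have h2 : (V.2.primeIdealOf ⟨_, hgV⟩).asIdeal ≤ P := (PrimeSpectrum.le_iff_specializes _ y).2 h1
    have h3 : V.2.primeIdealOf ⟨_, hgV⟩ = y :=
      PrimeSpectrum.ext (le_antisymm h2 (hmin.2 ⟨(V.2.primeIdealOf ⟨_, hgV⟩).2, bot_le⟩ h2))
    have h4 : IX.subschemeι g = V.2.fromSpec y := by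
      rw [← h3, V.2.fromSpec_primeIdealOf]
    have hs : Subsingleton ((ClSub.idealMod IX).presheaf.stalk (V.2.fromSpec y)) := h4 ▸ hgen T hT
    obtain ⟨m, hm⟩ := IntMultLib.exists_section IX V hbX
    obtain ⟨W, hyW, i₁, i₂, hW'⟩ := TopCat.Presheaf.germ_eq (ClSub.idealMod IX).presheaf _ hq hq m 0
      (@Subsingleton.elim _ hs _ _)
    have h5 := congrArg ((ClSub.idealModι IX).app W) hW'
    simp only [QCohLib.app_map, map_zero, hm] at h5
    letI := TopCat.Presheaf.algebra_section_stalk Z.presheaf ⟨V.2.fromSpec y, hq⟩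
    haveI := V.2.isLocalization_stalk' y hq
    have h6 : algebraMap Γ(Z, V.1) (Z.presheaf.stalk (V.2.fromSpec y)) b = 0 := by
      have h := congrArg (Z.presheaf.germ W _ hyW) h5
      rw [map_zero] at h
      exact (TopCat.Presheaf.germ_res_apply Z.presheaf i₁ _ hyW b).symm.trans h
    obtain ⟨s, hs⟩ := (IsLocalization.map_eq_zero_iff P.primeCompl _ _).1 h6
    exact s.2 (hann s hs)
  · rw [Scheme.IdealSheafData.range_subschemeι, SetLike.mem_coe,
      Scheme.IdealSheafData.mem_support_iff_of_mem (U := V) hq, Scheme.mem_zeroLocus_iff] at hz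
    push Not at hz
    obtain ⟨a, ha, hqa⟩ := hz
    have haP : a ∉ P := by
      have h : y ∈ V.2.fromSpec ⁻¹ᵁ Z.basicOpen a := hqa
      rw [V.2.fromSpec_preimage_basicOpen] at h
      exact h
    refine haP (hann a ?_)
    rw [hW] at hbW
    rw [mul_comm]
    exact Submodule.mem_annihilator.1 hbW a ha

theorem mul_eq_bot (hW : ∀ U : Z.affineOpens, IW.ideal U = (IX.ideal U).annihilator) : IX * IW = ⊥ := by
  refine le_bot_iff.1 fun U => ?_
  rw [Scheme.IdealSheafData.ideal_mul, Pi.mul_apply, Scheme.IdealSheafData.ideal_bot, Pi.bot_apply]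
  refine Ideal.mul_le.2 fun r hr s hs => ?_
  rw [hW] at hs
  rw [Submodule.mem_bot, mul_comm]
  exact Submodule.mem_annihilator.1 hs r hr

/-- The restricted residual ideal module is the ideal of the trace of the residual scheme. -/
theorem isIso_toComap_residual (hCM : ∀ z : Z, LocCoh.IsCohenMacaulayLocalRing (Z.presheaf.stalk z))
    (hgen : ∀ T (hT : T ∈ irreducibleComponents (IX.subscheme : Type u)),
      Subsingleton ((ClSub.idealMod IX).presheaf.stalk (IX.subschemeι.base hT.1.genericPoint)))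
    (hW : ∀ U : Z.affineOpens, IW.ideal U = (IX.ideal U).annihilator) :
    IsIso (PicH1Lib.toComap IX.subschemeι IW) := by
  let ι := IX.subschemeι
  have hk : ClSub.KilledByIdeal ι.ker (ClSub.idealMod IW) := by
    rw [Scheme.IdealSheafData.ker_subschemeι]
    exact PicH1Lib.killedByIdeal_idealMod IW (mul_eq_bot hW)
  haveI := DevissLib.isIso_unit_of_killed ι hk
  refine RpushLib.isIso_of_bijective_basis _
    (B := {U | ∃ V : Z.affineOpens, U = ι ⁻¹ᵁ V.1}) ?_ ?_
  · refine Opens.isBasis_iff_nbhd.mpr fun {U x} hx => ?_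
    obtain ⟨O, hO, hO'⟩ := ι.isClosedEmbedding.isInducing.isOpen_iff.mp U.2
    obtain ⟨V, hV, hxV, hVO⟩ := exists_isAffineOpen_mem_and_subset (X := Z) (x := ι x) (U := ⟨O, hO⟩)
      (show ι x ∈ O from (Set.ext_iff.1 hO' x).2 hx)
    refine ⟨ι ⁻¹ᵁ V, ⟨⟨V, hV⟩, rfl⟩, hxV, fun p hp => ?_⟩
    exact (Set.ext_iff.1 hO' p).1 (hVO hp)
  · rintro _ ⟨V, rfl⟩
    let η := (Scheme.Modules.pullbackPushforwardAdjunction ι).unit.app (ClSub.idealMod IW)
    have hsurj : ∀ σ, ∃ m, puSec ι m = σ := fun σ =>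
      ⟨(inv η).app V.1 σ, by
        show η.app V.1 ((inv η).app V.1 σ) = σ
        exact congrArg (fun φ => φ.app V.1 σ) (IsIso.inv_hom_id η)⟩
    have hval : ∀ m : Γ(ClSub.idealMod IW, V.1),
        PicH1Lib.idVal (IW.comap ι) ((PicH1Lib.toComap ι IW).app (ι ⁻¹ᵁ V.1) (puSec ι m)) =
          ι.app V.1 (PicH1Lib.idVal IW m) := fun m =>
      (congrArg (fun φ => φ.app (ι ⁻¹ᵁ V.1) (puSec ι m)) (PicH1Lib.toComap_ι ι IW)).trans
        (PicH1Lib.pullIdeal_puSec ι IW m)
    refine ⟨(injective_iff_map_eq_zero (((PicH1Lib.toComap ι IW).app (ι ⁻¹ᵁ V.1)).hom)).2 fun σ hσ => ?_,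
      fun t => ?_⟩
    · obtain ⟨m, rfl⟩ := hsurj σ
      have h0 : ι.app V.1 (PicH1Lib.idVal IW m) = 0 := by
        rw [← hval]
        exact (congrArg (PicH1Lib.idVal (IW.comap ι)) hσ).trans (map_zero ((ClSub.idealModι _).app _).hom)
      have h1 : PicH1Lib.idVal IW m = 0 := inf_eq_zero hCM hgen hW V
        (by rw [← IX.ker_subschemeι_app V]; exact h0) (GenFlatStrat.idealModι_mem IW V m)
      rw [show m = 0 from PicH1Lib.idVal_injective IW V.1
        (h1.trans (map_zero ((ClSub.idealModι IW).app V.1).hom).symm)]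
      exact map_zero (η.app V.1).hom
    · have hU : IsAffineOpen (ι ⁻¹ᵁ V.1) := V.2.preimage ι
      have hb := GenFlatStrat.idealModι_mem (IW.comap ι) ⟨_, hU⟩ t
      rw [Groth.Agent.S4666.ideal_comap_eq IW ι V ⟨_, hU⟩ le_rfl] at hb
      rw [← Scheme.Hom.app_eq_appLE, Ideal.mem_map_iff_of_surjective _ (IX.subschemeι_app_surjective V)] at hb
      obtain ⟨a, ha, hat⟩ := hb
      obtain ⟨m, hm⟩ := IntMultLib.exists_section IW V ha
      refine ⟨puSec ι m, PicH1Lib.idVal_injective (IW.comap ι) _ ((hval m).trans ?_)⟩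
      exact (congrArg (ι.app V.1) hm).trans hat

end LinkLib
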